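import Groth.Agent.An92.RHomSerre.Plus
import Groth.Agent.GSS45.ClosedRight
import Groth.Agent.QC70.ExtCoh
import Groth.Agent.QC70.InjEnvelope
import Groth.Agent.QC70.ClosedHomInj
import Groth.Agent.QC70.PushClosed
import Groth.Agent.KRR40.ProjFormula
import Groth.Agent.Var76.RegMulX
import Groth.Agent.GRec72.Tensor
import Groth.Agent.Div89.StalkOpen
import Groth.Agent.QCPull72.Sections
import Groth.Agent.RB70.ExtZQCoh

/-!
`i_* Hom(O_Z, -) = 𝓗om(i_* O_Z, -)` for a closed immersion, and coherence of the derived functors.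
-/

set_option autoImplicit false
set_option backward.isDefEq.respectTransparency.types false
set_option linter.style.haveILetI false

noncomputable section

universe u

open CategoryTheory Limits AlgebraicGeometry TopologicalSpace Opposite
open Groth.Agent.QC70

namespace Groth.Agent.An92.RHomSerre

variable {Z X : Scheme.{u}} (i : Z ⟶ X) [IsClosedImmersion i]

local notation "p" => Scheme.Modules.pushforward i

/-- `i_* O_Z`. -/
abbrev pushO : X.Modules := (Scheme.Modules.pushforward i).obj (Coh.structureModule Z)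

/-- The projection formula map, on the pullback. -/
def projApp (N : X.Modules) : (Mod48.tL (O := X.sheaf) (pushO i)).obj N ⟶
    (p).obj ((Mod48.tL (O := Z.sheaf) (Coh.structureModule Z)).obj ((Scheme.Modules.pullback i).obj N)) :=
  ValVan29.projHom i (Coh.structureModule Z) N

omit [IsClosedImmersion i] in
theorem projApp_naturality {N N' : X.Modules} (g : N ⟶ N') :
    (Mod48.tL (O := X.sheaf) (pushO i)).map g ≫ projApp i N' = projApp i N ≫
      (p).map ((Mod48.tL (O := Z.sheaf) (Coh.structureModule Z)).map ((Scheme.Modules.pullback i).map g)) := by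
  refine GRec72.hom_ext_tmul fun U m n => ?_
  have hu := congrArg (fun φ => φ.app U n) ((Scheme.Modules.pullbackPushforwardAdjunction i).unit.naturality g)
  show (ValVan29.projHom i (Coh.structureModule Z) N').app U
      ((Var76.Reg.whiskL (pushO i) g).app U (Amp73.tm (pushO i) N m n)) =
    (Var76.Reg.whiskL (Coh.structureModule Z) ((Scheme.Modules.pullback i).map g)).app (i ⁻¹ᵁ U)
      ((ValVan29.projHom i (Coh.structureModule Z) N).app U (Amp73.tm (pushO i) N m n))
  rw [Var76.Reg.whiskL_tm]
  erw [(ValVan29.projPairing i (Coh.structureModule Z) N').lift_tmul,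
    (ValVan29.projPairing i (Coh.structureModule Z) N).lift_tmul]
  refine Eq.trans ?_ (Var76.Reg.whiskL_tm (Coh.structureModule Z) ((Scheme.Modules.pullback i).map g) _ _).symm
  exact congrArg (Amp73.tm (Coh.structureModule Z) _ (U := i ⁻¹ᵁ U) m) hu

/-- `i_* O_Z ⊗ -` is `i_* i^*`. -/
def tLIsoPullPush : Mod48.tL (O := X.sheaf) (pushO i) ≅ Scheme.Modules.pullback i ⋙ p :=
  NatIso.ofComponents
      (G := Scheme.Modules.pullback i ⋙ Mod48.tL (O := Z.sheaf) (Coh.structureModule Z) ⋙ p)
      (fun N => @asIso _ _ _ _ (projApp i N) (KRR40.isIso_projHom_closed i _ N))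
      (fun g => projApp_naturality i g) ≪≫
    Functor.isoWhiskerLeft (Scheme.Modules.pullback i)
      (Functor.isoWhiskerRight (Mod48.tensUnit (O := Z.sheaf)) (p))

theorem isCoh_O (W : Scheme.{u}) : Coh.IsCoh (Coh.structureModule W) :=
  ⟨QC70.isQuasicoherent_unit (X := W), Div89.isFiniteType_unit W⟩

variable [Dual3.HasHomO i]

/-- `i_* Hom(O_Z, -) = 𝓗om(i_* O_Z, -)`. -/
def homOPushIso : Dual3.homO i ⋙ p ≅ homFunctor (pushO i) :=
  ((Scheme.Modules.pullbackPushforwardAdjunction i).comp (Dual3.homOAdj i)).rightAdjointUniq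
    ((homModAdjL (pushO i)).ofNatIsoLeft (tLIsoPullPush i))

omit [Dual3.HasHomO i] in
theorem nonempty_pullPushIso (N : Z.Modules) :
    Nonempty ((Scheme.Modules.pullback i).obj ((p).obj N) ≅ N) := by
  haveI := GSS45.ClosedHom.full_pushforward i
  haveI := QC70.faithful_pushforward i
  exact ⟨(asIso ((Scheme.Modules.pullbackPushforwardAdjunction i).counit)).app N⟩

omit [Dual3.HasHomO i] in
theorem isQCoh_of_push {N : Z.Modules} (h : Coh.IsQCoh ((p).obj N)) : Coh.IsQCoh N := by
  haveI : ((p).obj N).IsQuasicoherent := h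
  obtain ⟨e⟩ := nonempty_pullPushIso i N
  exact QC70.isQuasicoherent_of_iso e (QCPull72.isQuasicoherent_pullback i _)

omit [Dual3.HasHomO i] in
theorem isCoh_of_push {N : Z.Modules} (h : Coh.IsCoh ((p).obj N)) : Coh.IsCoh N := by
  haveI := h.1
  haveI := h.2
  obtain ⟨e⟩ := nonempty_pullPushIso i N
  exact QC70.isCoh_of_iso e
    ⟨QCPull72.isQuasicoherent_pullback i _, QCPull72.isFiniteType_pullback i _⟩

/-- Quasi-coherent modules form a weak Serre class. -/
theorem isWeakSerre_qcoh (W : Scheme.{u}) : IsWeakSerre (Coh.IsQCoh (X := W)) where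
  iso e h := QC70.isQuasicoherent_of_iso e h
  zero hA := (QC70.isCoh_of_isZero hA).1
  ker {A B} f hA hB := by
    haveI : A.IsQuasicoherent := hA
    haveI : B.IsQuasicoherent := hB
    exact QC70.isQuasicoherent_kernel f
  coker {A B} f hA hB := by
    haveI : A.IsQuasicoherent := hA
    haveI : B.IsQuasicoherent := hB
    exact QC70.isQuasicoherent_cokernel f
  ext S hS h₁ h₃ := by
    haveI : S.X₁.IsQuasicoherent := h₁
    haveI : S.X₃.IsQuasicoherent := h₃
    exact QC70.isQuasicoherent_X₂ S hS

/-- Coherent modules form a weak Serre class. -/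
theorem isWeakSerre_coh (W : Scheme.{u}) [IsLocallyNoetherian W] : IsWeakSerre (Coh.IsCoh (X := W)) where
  iso e h := QC70.isCoh_of_iso e h
  zero hA := QC70.isCoh_of_isZero hA
  ker f hA hB := QC70.isCoh_kernel f hA hB.1
  coker f hA hB := QC70.isCoh_cokernel f hA.1 hB
  ext S hS h₁ h₃ := QC70.isCoh_X₂ S hS h₁ h₃

theorem preservesFiniteLimits_homO : PreservesFiniteLimits (Dual3.homO i) := by
  have : (Dual3.homO i).IsRightAdjoint := (Dual3.homOAdj i).isRightAdjoint
  infer_instance

variable [IsLocallyNoetherian X]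

theorem isQCoh_homO_obj {G : X.Modules} (hG : Coh.IsQCoh G) : Coh.IsQCoh ((Dual3.homO i).obj G) := by
  haveI : G.IsQuasicoherent := hG
  haveI := RB70.isQuasicoherent_homMod (N := G) (QC70.isCoh_pushforward i _ (isCoh_O Z))
  exact isQCoh_of_push i (QC70.isQuasicoherent_of_iso ((homOPushIso i).app G).symm ‹_›)

theorem isQCoh_rightDerived_homO [HasInjectiveResolutions X.Modules] (q : ℕ) :
    ∀ G : X.Modules, Coh.IsQCoh G → Coh.IsQCoh (((Dual3.homO i).rightDerived q).obj G) := by
  haveI := preservesFiniteLimits_homO i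
  induction q with
  | zero =>
    intro G hG
    exact (isWeakSerre_qcoh Z).iso ((Dual3.homO i).rightDerivedZeroIsoSelf.app G).symm (isQCoh_homO_obj i hG)
  | succ n ih =>
    intro G hG
    haveI : G.IsQuasicoherent := hG
    obtain ⟨H, e, he, hH, hHinj⟩ := exists_qcoh_injective_hull G
    haveI := he
    haveI := hHinj
    haveI := hH
    let S : ShortComplex X.Modules := ShortComplex.mk e (cokernel.π e) (cokernel.condition e)
    have hS : S.ShortExact :=
      { exact := ShortComplex.exact_of_g_is_cokernel _ (cokernelIsCokernel e) }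
    obtain ⟨Δ⟩ := RD97.nonempty_derivedLES (Dual3.homO i)
    have hex := Δ.exact₃ S hS n (n + 1) rfl
    haveI : Epi (Δ.δ S hS n (n + 1) rfl) := (Δ.exact₁ S hS n (n + 1) rfl).epi_f
      (((Dual3.homO i).isZero_rightDerived_obj_injective_succ n H).eq_of_tgt _ _)
    exact (isWeakSerre_qcoh Z).iso ((cokernelIsCokernel _).coconePointUniqueUpToIso hex.gIsCokernel)
      ((isWeakSerre_qcoh Z).coker _ (ih H hH) (ih (cokernel e) (QC70.isQuasicoherent_cokernel e)))

omit [IsLocallyNoetherian X] in
/-- The derived functors of `𝓗om(i_* O_Z, -)` are `i_*` of those of `Hom(O_Z, -)`. -/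
theorem nonempty_push_rightDerived_homO [HasInjectiveResolutions X.Modules] (q : ℕ) (G : X.Modules) :
    haveI := additive_homFunctor (pushO i)
    Nonempty ((p).obj (((Dual3.homO i).rightDerived q).obj G) ≅
      ((homFunctor (pushO i)).rightDerived q).obj G) := by
  haveI := additive_homFunctor (pushO i)
  haveI := GSS45.ClosedHom.preservesFiniteLimits_pushforward i
  haveI := GSS45.ClosedHom.preservesFiniteColimits_pushforward i
  haveI : (p).PreservesHomology := inferInstance
  let R := injectiveResolution G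
  let c := ComplexShape.up ℕ
  exact ⟨(p).mapIso (R.isoRightDerivedObj (Dual3.homO i) q) ≪≫
    (((((Dual3.homO i).mapHomologicalComplex c).obj R.cocomplex).sc q).mapHomologyIso (p)).symm ≪≫
    (HomologicalComplex.homologyFunctor X.Modules c q).mapIso
      ((NatIso.mapHomologicalComplex (homOPushIso i) c).app R.cocomplex) ≪≫
    (R.isoRightDerivedObj (homFunctor (pushO i)) q).symm⟩

theorem isCoh_rightDerived_homO [EnoughInjectives X.Modules] (q : ℕ) {G : X.Modules} (hG : Coh.IsCoh G) :
    Coh.IsCoh (((Dual3.homO i).rightDerived q).obj G) := by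
  haveI := additive_homFunctor (pushO i)
  obtain ⟨e⟩ := nonempty_push_rightDerived_homO i q G
  refine isCoh_of_push i (QC70.isCoh_of_iso e.symm ?_)
  have hO : Coh.IsCoh (pushO i) := QC70.isCoh_pushforward i _ (isCoh_O Z)
  haveI := hasSheafHom_modSite (pushO i)
  haveI : HasInjectiveResolutions (ModSite.Mod X.sheaf) := (inferInstance : HasInjectiveResolutions X.Modules)
  let T : X.Modules ⥤ X.Modules := ModSite.sheafHom (O := X.sheaf) (pushO i)
  let eT : T ≅ homFunctor (pushO i) := sheafHomIso' _
  haveI : T.Additive := Functor.additive_of_iso eT.symm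
  exact QC70.isCoh_of_iso
    ({ hom := (NatTrans.rightDerived eT.hom q).app G
       inv := (NatTrans.rightDerived eT.inv q).app G
       hom_inv_id := by
        rw [← NatTrans.comp_app, ← NatTrans.rightDerived_comp, eT.hom_inv_id, NatTrans.rightDerived_id]
        rfl
       inv_hom_id := by
        rw [← NatTrans.comp_app, ← NatTrans.rightDerived_comp, eT.inv_hom_id, NatTrans.rightDerived_id]
        rfl } : (T.rightDerived q).obj G ≅ ((homFunctor (pushO i)).rightDerived q).obj G)
    (isCoh_extSh (pushO i) G hO hG q)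

end Groth.Agent.An92.RHomSerre
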