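import Groth.Agent.RD97.LES
import Mathlib.CategoryTheory.Abelian.DiagramLemmas.KernelCokernelComp
import Mathlib.CategoryTheory.Abelian.RightDerived
import Mathlib.Algebra.Homology.Embedding.CochainComplex

/-!
# Cohomology of a left exact functor on a bounded below complex of injectives: dévissage
-/

set_option autoImplicit false
set_option backward.isDefEq.respectTransparency false

universe v v' u u'

open CategoryTheory CategoryTheory.Limits

namespace Groth.Agent.An92.RHomSerre

/-- A property closed under kernels, cokernels and extensions. -/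
structure IsWeakSerre {D : Type u'} [Category.{v'} D] [Abelian D] (P : D → Prop) : Prop where
  iso : ∀ {A B : D}, (A ≅ B) → P A → P B
  zero : ∀ {A : D}, IsZero A → P A
  ker : ∀ {A B : D} (f : A ⟶ B), P A → P B → P (kernel f)
  coker : ∀ {A B : D} (f : A ⟶ B), P A → P B → P (cokernel f)
  ext : ∀ (S : ShortComplex D), S.ShortExact → P S.X₁ → P S.X₃ → P S.X₂

variable {D : Type u'} [Category.{v'} D] [Abelian D] {P : D → Prop}

/-- The middle term of a five term exact sequence. -/
theorem IsWeakSerre.middle (hP : IsWeakSerre P) {A B X E F : D} {f : A ⟶ B} {g : B ⟶ X} {h : X ⟶ E} {k : E ⟶ F}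
    {w₁ : f ≫ g = 0} {w₂ : g ≫ h = 0} {w₃ : h ≫ k = 0} (e₁ : (ShortComplex.mk f g w₁).Exact)
    (e₂ : (ShortComplex.mk g h w₂).Exact) (e₃ : (ShortComplex.mk h k w₃).Exact)
    (hA : P A) (hB : P B) (hE : P E) (hF : P F) : P X := by
  let i : cokernel f ⟶ X := cokernel.desc f g w₁
  let p : X ⟶ kernel k := kernel.lift k h w₃
  haveI : Mono i := e₁.mono_cokernelDesc
  haveI : Epi p := e₃.epi_kernelLift
  have w : i ≫ p = 0 := by
    ext
    simp [i, p, w₂]
  have hS : (ShortComplex.mk i p w).ShortExact := by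
    refine { exact := ?_ }
    rw [ShortComplex.exact_iff_exact_up_to_refinements]
    intro T x₂ hx₂
    have hx : x₂ ≫ h = 0 := by
      have := congrArg (· ≫ kernel.ι k) hx₂
      simpa [p] using this
    obtain ⟨T', π, hπ, x₁, hx₁⟩ := e₂.exact_up_to_refinements x₂ hx
    exact ⟨T', π, hπ, x₁ ≫ cokernel.π f, by simpa [i] using hx₁⟩
  exact hP.ext _ hS (hP.coker f hA hB) (hP.ker k hE hF)

variable {C : Type u} [Category.{v} C] [Abelian C] [HasInjectiveResolutions C]

/-- The cohomology of `G J` lies in a weak Serre class containing all `R^q G (H^n J)`. -/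
theorem homology_map_mem (G : C ⥤ D) [G.Additive] [PreservesFiniteLimits G] (hP : IsWeakSerre P)
    (J : CochainComplex C ℤ) [∀ n, Injective (J.X n)] (a : ℤ) [J.IsStrictlyGE a]
    (hH : ∀ (q : ℕ) (n : ℤ), P ((G.rightDerived q).obj (J.homology n))) (n : ℤ) :
    P (((G.mapHomologicalComplex (ComplexShape.up ℤ)).obj J).homology n) := by
  obtain ⟨Δ⟩ := RD97.nonempty_derivedLES G
  -- cycles, boundaries
  let B : ℤ → C := fun m => cokernel (J.iCycles m)
  let p : ∀ m, J.X m ⟶ B m := fun m => cokernel.π (J.iCycles m)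
  let b : ∀ m m', m + 1 = m' → (B m ⟶ J.cycles m') := fun m m' h =>
    cokernel.desc (J.iCycles m) (J.toCycles m m') (by rw [← cancel_mono (J.iCycles m'), Category.assoc,
      HomologicalComplex.toCycles_i, HomologicalComplex.iCycles_d, zero_comp])
  have hb : ∀ m m' h, p m ≫ b m m' h = J.toCycles m m' := fun m m' h => cokernel.π_desc _ _ _
  have hmono : ∀ m m' (h : m + 1 = m'), Mono (b m m' h) := fun m m' h => by
    have hex : (ShortComplex.mk (J.iCycles m) (J.d m m') (J.iCycles_d m m')).Exact :=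
      ShortComplex.exact_of_f_is_kernel _ (J.cyclesIsKernel m m' ((ComplexShape.up ℤ).next_eq' h))
    haveI := hex.mono_cokernelDesc
    have : cokernel.desc (J.iCycles m) (J.d m m') (J.iCycles_d m m') = b m m' h ≫ J.iCycles m' := by
      ext
      simp [b]
    exact mono_of_mono_fac this.symm
  let S₁ : ∀ m, ShortComplex C := fun m => ShortComplex.mk (J.iCycles m) (p m) (cokernel.condition _)
  have hS₁ : ∀ m, (S₁ m).ShortExact := fun m =>
    { exact := ShortComplex.exact_of_g_is_cokernel _ (cokernelIsCokernel _)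
      mono_f := inferInstanceAs (Mono (J.iCycles m))
      epi_g := inferInstanceAs (Epi (cokernel.π (J.iCycles m))) }
  let S₂ : ∀ (m m' : ℤ) (h : m + 1 = m'), ShortComplex C := fun m m' h =>
    ShortComplex.mk (b m m' h) (J.homologyπ m') (by
      rw [← cancel_epi (p m), reassoc_of% (hb m m' h), comp_zero, HomologicalComplex.toCycles_comp_homologyπ])
  have hS₂ : ∀ (m m' : ℤ) h, (S₂ m m' h).ShortExact := fun m m' h => by
    refine { exact := ?_, mono_f := hmono m m' h, epi_g := inferInstanceAs (Epi (J.homologyπ m')) }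
    rw [ShortComplex.exact_iff_exact_up_to_refinements]
    intro T x hx
    have he : (ShortComplex.mk _ _ (J.toCycles_comp_homologyπ m m')).Exact :=
      ShortComplex.exact_of_g_is_cokernel _ (J.homologyIsCokernel m m' ((ComplexShape.up ℤ).prev_eq' h))
    obtain ⟨T', π, hπ, y, hy⟩ := he.exact_up_to_refinements x hx
    exact ⟨T', π, hπ, y ≫ p m, hy.trans (by rw [Category.assoc]; exact (congrArg (y ≫ ·) (hb m m' h)).symm)⟩
  -- higher derived functors of the boundaries and of the cycles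
  have hB : ∀ m, (∀ q, P ((G.rightDerived (q + 1)).obj (J.cycles m))) →
      ∀ q, P ((G.rightDerived (q + 1)).obj (B m)) := fun m hZ q => by
    have h0 := G.isZero_rightDerived_obj_injective_succ q (J.X m)
    have h1 := G.isZero_rightDerived_obj_injective_succ (q + 1) (J.X m)
    exact hP.middle (Δ.exact₂ _ (hS₁ m) (q + 1)) (Δ.exact₃ _ (hS₁ m) (q + 1) (q + 1 + 1) rfl)
      (Δ.exact₁ _ (hS₁ m) (q + 1) (q + 1 + 1) rfl) (hZ q) (hP.zero h0) (hZ (q + 1)) (hP.zero h1)
  have hZ0 : ∀ m, m < a → IsZero (J.cycles m) := fun m hm => by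
    rw [IsZero.iff_id_eq_zero, ← cancel_mono (J.iCycles m), Category.id_comp, zero_comp]
    exact (J.isZero_of_isStrictlyGE a m hm).eq_of_tgt _ _
  have hstep : ∀ m, (∀ q, P ((G.rightDerived (q + 1)).obj (J.cycles m))) →
      ∀ q, P ((G.rightDerived (q + 1)).obj (J.cycles (m + 1))) := fun m hZ q =>
    hP.middle (Δ.exact₁ _ (hS₂ m _ rfl) q (q + 1) rfl) (Δ.exact₂ _ (hS₂ m _ rfl) (q + 1))
      (Δ.exact₃ _ (hS₂ m _ rfl) (q + 1) (q + 1 + 1) rfl) (hH q _) (hB m hZ q) (hH (q + 1) _) (hB m hZ (q + 1))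
  have hZ : ∀ m q, P ((G.rightDerived (q + 1)).obj (J.cycles m)) := by
    have : ∀ (k : ℕ) q, P ((G.rightDerived (q + 1)).obj (J.cycles (a - 1 + k))) := by
      intro k
      induction k with
      | zero => exact fun q => hP.zero ((G.rightDerived (q + 1)).map_isZero (hZ0 _ (by simp)))
      | succ k ih =>
        have := hstep _ ih
        rwa [Nat.cast_succ, ← add_assoc]
    intro m q
    by_cases hm : m < a
    · exact hP.zero ((G.rightDerived (q + 1)).map_isZero (hZ0 m hm))
    · obtain ⟨k, hk⟩ : ∃ k : ℕ, m = a - 1 + k := ⟨(m - a + 1).toNat, by omega⟩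
      exact hk ▸ this k q
  -- the cohomology of `G J`
  obtain ⟨m, rfl⟩ : ∃ m, n = m + 1 := ⟨n - 1, by omega⟩
  let R₀ := G.rightDerived 0
  let e₀ : R₀ ≅ G := G.rightDerivedZeroIsoSelf
  have hcp : P (cokernel (R₀.map (p m))) :=
    hP.iso (IsColimit.coconePointUniqueUpToIso
      (@ShortComplex.Exact.gIsCokernel _ _ _ _ _ (Δ.exact₃ _ (hS₁ m) 0 1 rfl)
        ((Δ.exact₁ _ (hS₁ m) 0 1 rfl).epi_f
          ((G.isZero_rightDerived_obj_injective_succ 0 (J.X m)).eq_of_tgt _ _)))
      (colimit.isColimit (parallelPair (R₀.map (p m)) 0))) (hZ m 0)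
  haveI : Mono (R₀.map (b m (m + 1) rfl)) := by
    haveI := hmono m (m + 1) rfl
    exact ((MorphismProperty.monomorphisms D).arrow_mk_iso_iff
      (((Functor.mapArrowFunctor _ _).mapIso e₀).app (Arrow.mk (b m (m + 1) rfl)))).2
      (inferInstanceAs (Mono (G.map (b m (m + 1) rfl))))
  have hcb : P (cokernel (R₀.map (b m (m + 1) rfl))) := by
    let e := Δ.exact₂ _ (hS₂ m _ rfl) 0
    let e' := Δ.exact₃ _ (hS₂ m _ rfl) 0 1 rfl
    let i : cokernel (R₀.map (b m (m + 1) rfl)) ⟶ R₀.obj (J.homology (m + 1)) :=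
      cokernel.desc _ (R₀.map (J.homologyπ (m + 1))) (by
        rw [← Functor.map_comp, show b m (m + 1) rfl ≫ J.homologyπ (m + 1) = 0 from (S₂ m _ rfl).zero,
          Functor.map_zero])
    haveI : Mono i := e.mono_cokernelDesc
    let δ : R₀.obj (J.homology (m + 1)) ⟶ (G.rightDerived 1).obj (B m) := Δ.δ _ (hS₂ m _ rfl) 0 1 rfl
    have w : i ≫ δ = 0 := by
      ext
      simp only [i, cokernel.π_desc_assoc, comp_zero]
      exact Δ.comp_δ _ (hS₂ m _ rfl) 0 1 rfl
    have hex : (ShortComplex.mk i δ w).Exact := by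
      rw [ShortComplex.exact_iff_exact_up_to_refinements]
      intro T x hx
      obtain ⟨T', π, hπ, y, hy⟩ := e'.exact_up_to_refinements x hx
      exact ⟨T', π, hπ, y ≫ cokernel.π _, hy.trans (by simp [i]; rfl)⟩
    exact hP.iso (IsLimit.conePointUniqueUpToIso hex.fIsKernel (kernelIsKernel δ)).symm
      (hP.ker δ (hH 0 _) (hB m (hZ m) 0))
  have hex := kernelCokernelCompSequence_exact (R₀.map (p m)) (R₀.map (b m (m + 1) rfl))
  have h4 : Epi ((kernelCokernelCompSequence (R₀.map (p m)) (R₀.map (b m (m + 1) rfl))).map' 4 5) := inferInstance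
  have hc : P (cokernel (R₀.map (p m) ≫ R₀.map (b m (m + 1) rfl))) :=
    hP.middle (hex.exact 2) (hex.exact 3)
      (@id (ShortComplex.mk ((kernelCokernelCompSequence (R₀.map (p m)) (R₀.map (b m (m + 1) rfl))).map' 4 5)
        (0 : _ ⟶ cokernel (𝟙 (R₀.obj (B m)))) comp_zero).Exact ((ShortComplex.exact_iff_epi _ rfl).2 h4))
      (hP.zero (isZero_kernel_of_mono _)) hcp hcb (hP.zero (isZero_cokernel_of_epi _))
  rw [← Functor.map_comp, hb m (m + 1) rfl] at hc
  let GJ := (G.mapHomologicalComplex (ComplexShape.up ℤ)).obj J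
  have hn : (ComplexShape.up ℤ).next (m + 1) = m + 1 + 1 := (ComplexShape.up ℤ).next_eq' rfl
  let cy : GJ.cycles (m + 1) ≅ G.obj (J.cycles (m + 1)) :=
    IsLimit.conePointUniqueUpToIso (GJ.cyclesIsKernel (m + 1) (m + 1 + 1) hn)
      (KernelFork.mapIsLimit _ (J.cyclesIsKernel (m + 1) (m + 1 + 1) hn) G)
  have hcy : cy.hom ≫ G.map (J.iCycles (m + 1)) = GJ.iCycles (m + 1) :=
    IsLimit.conePointUniqueUpToIso_hom_comp (GJ.cyclesIsKernel (m + 1) (m + 1 + 1) hn)
      (KernelFork.mapIsLimit _ (J.cyclesIsKernel (m + 1) (m + 1 + 1) hn) G) WalkingParallelPair.zero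
  have ht : GJ.toCycles m (m + 1) ≫ cy.hom = G.map (J.toCycles m (m + 1)) := by
    haveI : Mono (G.map (J.iCycles (m + 1))) := inferInstance
    rw [← cancel_mono (G.map (J.iCycles (m + 1))), Category.assoc, hcy, HomologicalComplex.toCycles_i,
      ← G.map_comp, HomologicalComplex.toCycles_i]
    rfl
  refine hP.iso ?_ hc
  exact (cokernel.mapIso (R₀.map (J.toCycles m (m + 1))) (G.map (J.toCycles m (m + 1))) (e₀.app _) (e₀.app _)
      (e₀.hom.naturality _)) ≪≫
    (cokernel.mapIso (GJ.toCycles m (m + 1)) (G.map (J.toCycles m (m + 1))) (Iso.refl _) cy (by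
      rw [ht, Iso.refl_hom]; exact (Category.id_comp _).symm)).symm ≪≫
    IsColimit.coconePointUniqueUpToIso (cokernelIsCokernel _)
      (GJ.homologyIsCokernel m (m + 1) ((ComplexShape.up ℤ).prev_eq' rfl))

end Groth.Agent.An92.RHomSerre
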