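import Groth.Agent.An92.RHomSerre.Devissage
import Groth.Agent.RFPlus43.Acyclic

/-!
# The right derived functor on `D⁺` computed by injective complexes, and the dévissage for it
-/

set_option autoImplicit false
set_option backward.isDefEq.respectTransparency false

universe w w' v v' u u'

open CategoryTheory CategoryTheory.Limits

namespace Groth.Agent.An92.RHomSerre

variable {C : Type u} [Category.{v} C] [Abelian C] [HasDerivedCategory.{w} C] [EnoughInjectives C]
  {D : Type u'} [Category.{v'} D] [Abelian D] [HasDerivedCategory.{w'} D]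
  (G : C ⥤ D) [G.Additive]

/-- An object of `D⁺` is a bounded below complex of injectives, and `RG` is computed by `G` on it. -/
theorem exists_injective_rep (K : DerivedCategory.Plus C) :
    ∃ (J : CochainComplex C ℤ) (a : ℤ) (_ : J.IsStrictlyGE a) (_ : ∀ n, Injective (J.X n)),
      Nonempty (DerivedCategory.Q.obj J ≅ K.obj) ∧
      ∀ n : ℤ, Nonempty ((DerivedCategory.homologyFunctor D n).obj (G.rightDerivedFunctorPlus.obj K).obj ≅
        ((G.mapHomologicalComplex (ComplexShape.up ℤ)).obj J).homology n) := by
  let q₀ := DerivedCategory.Plus.Qh.objPreimage K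
  let r : (HomotopyCategory.Plus.localizerMorphism C).RightResolution q₀ := Classical.arbitrary _
  obtain ⟨K', hK'⟩ := HomotopyCategory.Plus.quotient_obj_surjective r.X₁
  let J : CochainComplex.Plus C := (InjectiveObject.ι C).mapCochainComplexPlus.obj K'
  let q := (HomotopyCategory.Plus.quotient C).obj J
  haveI : IsIso (DerivedCategory.Plus.Qh.map r.w) :=
    Localization.inverts DerivedCategory.Plus.Qh (HomotopyCategory.Plus.quasiIso C) _ r.hw
  let e : K ≅ DerivedCategory.Plus.Qh.obj q :=
    (DerivedCategory.Plus.Qh.objObjPreimageIso K).symm ≪≫ asIso (DerivedCategory.Plus.Qh.map r.w) ≪≫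
      DerivedCategory.Plus.Qh.mapIso (eqToIso (by rw [← hK']; rfl))
  have hinj : ∀ n, Injective (J.obj.X n) := fun n => (K'.obj.X n).2
  haveI : IsIso ((RFPlus43.unitK G).app q) := by
    refine (RFPlus43.isIso_unitK_iff G _).2 ?_
    have : ∀ n : ℤ, Injective (q.obj.as.X n) := fun n => hinj n
    infer_instance
  obtain ⟨a, ha⟩ := J.property
  refine ⟨J.obj, a, ha, hinj,
    ⟨((DerivedCategory.quotientCompQhIso C).app J.obj).symm ≪≫ ((DerivedCategory.Plus.ι (C := C)).mapIso e).symm⟩,
    fun n => ⟨(DerivedCategory.homologyFunctor D n).mapIso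
      ((DerivedCategory.Plus.ι (C := D)).mapIso (G.rightDerivedFunctorPlus.mapIso e) ≪≫
        (asIso ((RFPlus43.unitK G).app q)).symm) ≪≫ (RFPlus43.GKHomologyIso G n).app J⟩⟩

/-- `RG` of an object whose cohomology objects have all `R^q G` in a weak Serre class has cohomology there. -/
theorem homology_RPlus_mem [PreservesFiniteLimits G] {P : D → Prop} (hP : IsWeakSerre P)
    (K : DerivedCategory.Plus C)
    (hH : ∀ (q : ℕ) (n : ℤ), P ((G.rightDerived q).obj ((DerivedCategory.homologyFunctor C n).obj K.obj)))
    (n : ℤ) : P ((DerivedCategory.homologyFunctor D n).obj (G.rightDerivedFunctorPlus.obj K).obj) := by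
  obtain ⟨J, a, _, _, ⟨e⟩, hn⟩ := exists_injective_rep G K
  obtain ⟨en⟩ := hn n
  refine hP.iso en.symm (homology_map_mem G hP J a (fun q m => ?_) n)
  exact hP.iso ((G.rightDerived q).mapIso ((DerivedCategory.homologyFunctor C m).mapIso e.symm ≪≫
    (DerivedCategory.homologyFunctorFactors C m).app J)) (hH q m)

end Groth.Agent.An92.RHomSerre
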