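import Groth.Agent.An92.RHomSerre.ClosedImm
import Groth.Agent.DCX42.RHomTri
import Groth.Agent.DCX42.PushAdj
import Groth.Agent.DerComp18.AwayHom
import Groth.Agent.CohDer42.RdAdj
import Groth.Agent.RFPlus43.Acyclic
import Groth.Prelude.Def_Dual3
import Groth.Prelude.Def_DCoh4

/-!
`i_* R Hom(O_Z, -) = RHom(i_* O_Z, -)`: the derived adjoints of `- ⊗^L i_* O_Z = i_* Li^*`.
-/

set_option autoImplicit false
set_option backward.isDefEq.respectTransparency.types false
set_option linter.style.haveILetI false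

noncomputable section

universe w w' v v' u u'

open CategoryTheory Limits

namespace Groth.Agent.An92.RHomSerre

section General

variable {C : Type u} [Category.{v} C] [Abelian C] [HasDerivedCategory.{w} C] [EnoughInjectives C]
  {D : Type u'} [Category.{v'} D] [Abelian D] [HasDerivedCategory.{w'} D] (G : C ⥤ D) [G.Additive]

/-- Bounded below complexes of injectives give all of `D⁺`. -/
theorem isEquivalence_injQh :
    ((InjectiveObject.ι C).mapHomotopyCategoryPlus ⋙ DerivedCategory.Plus.Qh (C := C)).IsEquivalence := by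
  let Q' := (InjectiveObject.ι C).mapHomotopyCategoryPlus ⋙ DerivedCategory.Plus.Qh (C := C)
  have hb : ∀ K L, Function.Bijective (Q'.map : (K ⟶ L) → _) := fun K L => by
    obtain ⟨L₀, rfl⟩ := HomotopyCategory.Plus.quotient_obj_surjective L
    refine (DerivedCategory.Plus.Qh_map_bijective_of_isKInjective
      ((InjectiveObject.ι C).mapHomotopyCategoryPlus.obj K)
      ((InjectiveObject.ι C).mapHomotopyCategoryPlus.obj ((HomotopyCategory.Plus.quotient _).obj L₀))
      (inferInstanceAs (CochainComplex.IsKInjective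
        (((InjectiveObject.ι C).mapHomologicalComplex (ComplexShape.up ℤ)).obj L₀.obj)))).comp ?_
    exact ⟨(InjectiveObject.ι C).mapHomotopyCategoryPlus.map_injective,
      (InjectiveObject.ι C).mapHomotopyCategoryPlus.map_surjective⟩
  haveI : Q'.Faithful := ⟨fun h => (hb _ _).1 h⟩
  haveI : Q'.Full := ⟨fun f => (hb _ _).2 f⟩
  haveI : Q'.EssSurj := ⟨fun K => by
    let q₀ := DerivedCategory.Plus.Qh.objPreimage K
    let r : (HomotopyCategory.Plus.localizerMorphism C).RightResolution q₀ := Classical.arbitrary _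
    haveI : IsIso (DerivedCategory.Plus.Qh.map r.w) :=
      Localization.inverts DerivedCategory.Plus.Qh (HomotopyCategory.Plus.quasiIso C) _ r.hw
    exact ⟨r.X₁, ⟨(asIso (DerivedCategory.Plus.Qh.map r.w)).symm ≪≫
      DerivedCategory.Plus.Qh.objObjPreimageIso K⟩⟩⟩
  exact { }

/-- An unbounded derived functor restricts to the derived functor on `D⁺`. -/
theorem nonempty_plus_iso (RF : DerivedCategory C ⥤ DerivedCategory D)
    (α : G.mapHomotopyCategory (ComplexShape.up ℤ) ⋙ DerivedCategory.Qh ⟶ DerivedCategory.Qh ⋙ RF)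
    (hα : ∀ I : CochainComplex C ℤ, I.IsKInjective →
      IsIso (α.app ((HomotopyCategory.quotient C (ComplexShape.up ℤ)).obj I))) :
    Nonempty (G.rightDerivedFunctorPlus ⋙ DerivedCategory.Plus.ι ≅
      (DerivedCategory.Plus.ι : DerivedCategory.Plus C ⥤ DerivedCategory C) ⋙ RF) := by
  let J := (InjectiveObject.ι C).mapHomotopyCategoryPlus
  let Q' := J ⋙ DerivedCategory.Plus.Qh (C := C)
  haveI : Q'.IsEquivalence := isEquivalence_injQh
  have hu : ∀ X, IsIso ((RFPlus43.unitK G).app (J.obj X)) := fun X =>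
    (RFPlus43.isIso_unitK_iff G _).2 inferInstance
  let u : J ⋙ RFPlus43.GK G ≅ J ⋙ RFPlus43.RGK G :=
    NatIso.ofComponents (fun X => @asIso _ _ _ _ ((RFPlus43.unitK G).app (J.obj X)) (hu X))
      (fun f => (RFPlus43.unitK G).naturality (J.map f))
  have ha : ∀ X, IsIso (α.app ((HomotopyCategory.Plus.ι C).obj (J.obj X))) := fun X => by
    obtain ⟨K, rfl⟩ := HomotopyCategory.Plus.quotient_obj_surjective X
    exact hα _ (inferInstanceAs (CochainComplex.IsKInjective
      (((InjectiveObject.ι C).mapHomologicalComplex (ComplexShape.up ℤ)).obj K.obj)))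
  let v : J ⋙ RFPlus43.GK G ≅ (J ⋙ HomotopyCategory.Plus.ι C) ⋙ DerivedCategory.Qh ⋙ RF :=
    NatIso.ofComponents (fun X => @asIso _ _ _ _ (α.app ((HomotopyCategory.Plus.ι C).obj (J.obj X))) (ha X))
      (fun f => α.naturality ((HomotopyCategory.Plus.ι C).map (J.map f)))
  let e : Q' ⋙ (G.rightDerivedFunctorPlus ⋙ DerivedCategory.Plus.ι) ≅
      Q' ⋙ ((DerivedCategory.Plus.ι : DerivedCategory.Plus C ⥤ DerivedCategory C) ⋙ RF) :=
    NatIso.ofComponents (fun X => (u.app X).symm ≪≫ v.app X)
      (fun f => (u.symm ≪≫ v).hom.naturality f)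
  exact ⟨((Functor.whiskeringLeft _ _ _).obj Q').preimageIso e⟩

end General

open AlgebraicGeometry

attribute [local instance] HasDerivedCategory.standard

universe t

variable {Z X : Scheme.{t}} (i : Z ⟶ X) [IsClosedImmersion i]
  [PreservesFiniteLimits (Scheme.Modules.pushforward i)]
  [PreservesFiniteColimits (Scheme.Modules.pushforward i)]

/-- `i_* O_Z` in degree zero. -/
abbrev pushOCx : CochainComplex X.Modules ℤ :=
  (HomologicalComplex.single X.Modules (ComplexShape.up ℤ) 0).obj (pushO i)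

/-- `Li^*` followed by `i_*` maps to the naive tensor with `i_* O_Z`. -/
theorem nonempty_LTensorCx_pushO [DCoh.HasLpull i] [DCoh.HasLTensorCx (pushOCx i)] :
    Nonempty (DCoh.Lpull i ⋙ Dual3.pushD i ≅ DCoh.LTensorCx (pushOCx i)) := by
  let c := ComplexShape.up ℤ
  let pull := Scheme.Modules.pullback i
  let push := Scheme.Modules.pushforward i
  let T : X.Modules ⥤ X.Modules := (ModSite.tensorBi X.sheaf).flip.obj (pushO i)
  let eT : pull ⋙ push ≅ T := (tLIsoPullPush i).symm ≪≫ Mod48.tensSymm (O := X.sheaf) (pushO i)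
  haveI : T.Additive := Functor.additive_of_iso eT
  let γ : T.mapHomologicalComplex c ≅ (DCoh.tensorCx (X := X)).flip.obj (pushOCx i) :=
    NatIso.ofComponents (fun P => Mod48.tcSingleIso (O := X.sheaf) P (pushO i))
      (fun g => DerComp18.tcSingleIso_natural (O := X.sheaf) g (pushO i))
  let G := DCoh.Lpull i ⋙ Dual3.pushD i
  let κ := (DCoh.pullKh i).totalLeftDerivedCounit DerivedCategory.Qh (HomotopyCategory.quasiIso X.Modules c)
  let θ : pull.mapHomologicalComplex c ⋙ DerivedCategory.Q ⋙ Dual3.pushD i ≅ DCoh.tensorCxQ (pushOCx i) :=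
    Functor.isoWhiskerLeft _ push.mapDerivedCategoryFactors ≪≫
      Functor.isoWhiskerRight (Functor.mapHomologicalComplexCompIso eT c ≪≫ γ) DerivedCategory.Q
  let a : DerivedCategory.Q ⋙ G ⟶ DCoh.tensorCxQ (pushOCx i) :=
    { app := fun P => (Dual3.pushD i).map
          ((DCoh.Lpull i).map ((DerivedCategory.quotientCompQhIso X.Modules).inv.app P) ≫
            κ.app ((HomotopyCategory.quotient X.Modules c).obj P) ≫
            (DerivedCategory.quotientCompQhIso Z.Modules).hom.app ((pull.mapHomologicalComplex c).obj P)) ≫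
          θ.hom.app P
      naturality := fun P P' f => by
        refine Eq.trans ?_ ((congrArg (_ ≫ ·) (θ.hom.naturality f)).trans (Category.assoc _ _ _).symm)
        change (Dual3.pushD i).map ((DCoh.Lpull i).map (DerivedCategory.Q.map f)) ≫ (Dual3.pushD i).map _ ≫ _ =
          (Dual3.pushD i).map _ ≫ (Dual3.pushD i).map (DerivedCategory.Q.map ((pull.mapHomologicalComplex c).map f)) ≫ _
        refine ((Functor.map_comp_assoc _ _ _ _).symm.trans ?_).trans (Functor.map_comp_assoc _ _ _ _)
        refine congrArg (fun z => (Dual3.pushD i).map z ≫ θ.hom.app P') ?_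
        rw [← Functor.map_comp_assoc]
        simp only [Category.assoc]
        have h1 : (DCoh.Lpull i).map
              (DerivedCategory.Q.map f ≫ (DerivedCategory.quotientCompQhIso X.Modules).inv.app P') =
            (DCoh.Lpull i).map ((DerivedCategory.quotientCompQhIso X.Modules).inv.app P) ≫
              (DCoh.Lpull i).map (DerivedCategory.Qh.map ((HomotopyCategory.quotient X.Modules c).map f)) :=
          (congrArg (DCoh.Lpull i).map ((DerivedCategory.quotientCompQhIso X.Modules).inv.naturality f)).trans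
            (Functor.map_comp _ _ _)
        refine (congrArg (· ≫ _) h1).trans ((Category.assoc _ _ _).trans (congrArg (_ ≫ ·) ?_))
        refine (Category.assoc _ _ _).symm.trans ((congrArg (· ≫ _) (κ.naturality _)).trans
          ((Category.assoc _ _ _).trans (congrArg (_ ≫ ·) ?_)))
        exact (DerivedCategory.quotientCompQhIso Z.Modules).hom.naturality ((pull.mapHomologicalComplex c).map f) }
  let b : G ⟶ DCoh.LTensorCx (pushOCx i) :=
    (DCoh.LTensorCx (pushOCx i)).leftDerivedLift (DCX42.RHomCalc.cn (pushOCx i)) (DCX42.RHomCalc.qi X) G a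
  haveI : ∀ F, IsIso (b.app F) := fun F => by
    obtain ⟨P, p, ⟨hP, hf⟩, hp⟩ := DCK91.res₀ X (DerivedCategory.Q.objPreimage F)
    haveI := hp
    let e : DerivedCategory.Q.obj P ≅ F := asIso (DerivedCategory.Q.map p) ≪≫ DerivedCategory.Q.objObjPreimageIso F
    refine (NatTrans.isIso_app_iff_of_iso b e).1 ?_
    haveI := DCX42.RHomCalc.isIso_cn (pushOCx i) P hP
    haveI : IsIso (κ.app ((HomotopyCategory.quotient X.Modules c).obj P)) :=
      DCK91.isIso_pullCounit i _ ⟨P, rfl, hP, hf⟩
    have h : b.app (DerivedCategory.Q.obj P) ≫ (DCX42.RHomCalc.cn (pushOCx i)).app P = a.app P :=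
      Functor.leftDerived_fac_app _ _ _ _ _ P
    haveI : IsIso (a.app P) := by
      haveI : IsIso ((DCoh.Lpull i).map ((DerivedCategory.quotientCompQhIso X.Modules).inv.app P) ≫
          κ.app ((HomotopyCategory.quotient X.Modules c).obj P) ≫
            (DerivedCategory.quotientCompQhIso Z.Modules).hom.app ((pull.mapHomologicalComplex c).obj P)) :=
        IsIso.comp_isIso' inferInstance (IsIso.comp_isIso' (by assumption)
          (NatIso.hom_app_isIso (DerivedCategory.quotientCompQhIso Z.Modules) _))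
      exact IsIso.comp_isIso' inferInstance inferInstance
    exact IsIso.of_isIso_fac_right h
  haveI : IsIso b := NatIso.isIso_of_isIso_app b
  exact ⟨asIso b⟩

/-- The derived functor of an exact functor is the exact functor. -/
theorem nonempty_Rpush_iso_pushD [DCoh.HasRpush i] : Nonempty (DCoh.Rpush i ≅ Dual3.pushD i) := by
  let push := Scheme.Modules.pushforward i
  haveI : (Dual3.pushD i).IsRightDerivedFunctor push.mapDerivedCategoryFactorsh.inv
      (HomotopyCategory.quasiIso Z.Modules (ComplexShape.up ℤ)) :=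
    Functor.isRightDerivedFunctor_of_inverts _ (Dual3.pushD i) push.mapDerivedCategoryFactorsh
  exact ⟨Functor.rightDerivedUnique _ _ ((DCoh.pushKh i).totalRightDerivedUnit DerivedCategory.Qh
    (HomotopyCategory.quasiIso Z.Modules (ComplexShape.up ℤ))) push.mapDerivedCategoryFactorsh.inv
    (HomotopyCategory.quasiIso Z.Modules (ComplexShape.up ℤ))⟩

/-- `i_* R Hom(O_Z, -) = RHom(i_* O_Z, -)` on `D⁺`. -/
theorem nonempty_pushD_RHomOPlus [Dual3.HasHomO i] [EnoughInjectives X.Modules]
    (E : CochainComplex X.Modules ℤ) (e : DerivedCategory.Q.obj E ≅ DerivedCategory.Q.obj (pushOCx i))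
    [DCoh.HasLTensorCx E] [DCoh.HasRSheafHom E] :
    Nonempty (Dual3.RHomOPlus i ⋙ (DerivedCategory.Plus.ι : DerivedCategory.Plus Z.Modules ⥤ DCoh.D Z) ⋙
        Dual3.pushD i ≅
      (DerivedCategory.Plus.ι : DerivedCategory.Plus X.Modules ⥤ DCoh.D X) ⋙ DCoh.RSheafHom E) := by
  haveI := DCK91.hasLpull i
  haveI := DCX42.hasRpush i
  haveI : ∀ E' : CochainComplex X.Modules ℤ, DCoh.HasLTensorCx E' := DCX42.RHomCalc.hasLT
  obtain ⟨M, s, hs, g, hg⟩ := DerivedCategory.right_fac e.hom
  haveI := hs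
  haveI : IsIso (DerivedCategory.Q.map g) := by
    rw [show DerivedCategory.Q.map g = DerivedCategory.Q.map s ≫ e.hom by rw [hg, IsIso.hom_inv_id_assoc]]
    infer_instance
  haveI := DCX42.RHomCalc.isIso_ltMap s
  haveI := DCX42.RHomCalc.isIso_ltMap g
  let l : DCoh.LTensorCx E ≅ DCoh.LTensorCx (pushOCx i) :=
    (asIso (DCX42.RHomCalc.ltMap s)).symm ≪≫ asIso (DCX42.RHomCalc.ltMap g)
  obtain ⟨t⟩ := nonempty_LTensorCx_pushO i
  obtain ⟨r⟩ := nonempty_Rpush_iso_pushD i
  let RF := CohDer42.RdAdj.rd (Dual3.homO i)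
  let α := CohDer42.RdAdj.rdUnit (Dual3.homO i)
  let adj : DCoh.Lpull i ⋙ Dual3.pushD i ⊣ RF ⋙ DCoh.Rpush i :=
    (DCX42.LpullRpushAdj i).comp (CohDer42.RdAdj.adjRF (Dual3.homOAdj i) RF α)
  let u : RF ⋙ DCoh.Rpush i ≅ DCoh.RSheafHom E :=
    adj.rightAdjointUniq ((DCoh.RSheafHomAdj E).ofNatIsoLeft (l ≪≫ t.symm))
  obtain ⟨k⟩ := nonempty_plus_iso (Dual3.homO i) RF α
    (fun I hI => Mod48.isIso_unit_of_kInjective RF α CohDer42.RdAdj.enoughKInj I hI)
  exact ⟨(Functor.associator _ _ _).symm ≪≫ Functor.isoWhiskerRight k _ ≪≫ Functor.associator _ _ _ ≪≫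
    Functor.isoWhiskerLeft _ (Functor.isoWhiskerLeft RF r.symm ≪≫ u)⟩

end Groth.Agent.An92.RHomSerre
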